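import Mathlib.LinearAlgebra.FreeModule.PID
import Mathlib.RingTheory.LocalRing.Module
import Mathlib.RingTheory.DiscreteValuationRing.Basic
import Mathlib.LinearAlgebra.TensorProduct.RightExactness
import Mathlib.LinearAlgebra.Dimension.Finite
import Mathlib.RingTheory.TensorProduct.Finite
import Mathlib.LinearAlgebra.TensorProduct.Pi

/-! Number of generators of submodules over a local PID. -/

set_option autoImplicit false
universe u v w

namespace Groth.Agent.MuDVR

open TensorProduct IsLocalRing

variable {R : Type u} [CommRing R] [IsLocalRing R]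

local notation "κ" => ResidueField R

theorem finrank_le_of_surjective {M : Type v} [AddCommGroup M] [Module R M] {k : ℕ} (f : (Fin k → R) →ₗ[R] M)
    (hf : Function.Surjective f) : Module.finrank κ (κ ⊗[R] M) ≤ k := by
  have h := LinearMap.finrank_le_finrank_of_surjective (f := f.baseChange κ) (LinearMap.lTensor_surjective κ hf)
  rwa [(Module.finrank_baseChange : Module.finrank κ (κ ⊗[R] (Fin k → R)) = _), Module.finrank_pi, Fintype.card_fin] at h

theorem exists_surjective {M : Type v} [AddCommGroup M] [Module R M] [Module.Finite R M] :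
    ∃ f : (Fin (Module.finrank κ (κ ⊗[R] M)) → R) →ₗ[R] M, Function.Surjective f := by
  let b := Module.finBasis κ (κ ⊗[R] M)
  have hs : Function.Surjective (TensorProduct.mk R κ M 1) := TensorProduct.mk_surjective R M κ Ideal.Quotient.mk_surjective
  choose g hg using fun i => hs (b i)
  refine ⟨Fintype.linearCombination R g, ?_⟩
  rw [← LinearMap.range_eq_top, Fintype.range_linearCombination]
  exact span_eq_top_of_tmul_eq_basis g b hg

theorem finrank_submodule_le [IsDomain R] [IsPrincipalIdealRing R] {M : Type v} [AddCommGroup M] [Module R M]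
    [Module.Finite R M] (N : Submodule R M) :
    Module.finrank κ (κ ⊗[R] N) ≤ Module.finrank κ (κ ⊗[R] M) := by
  obtain ⟨f, hf⟩ := exists_surjective (R := R) (M := M)
  let P := N.comap f
  obtain ⟨k, b⟩ := Submodule.basisOfPid (Pi.basisFun R (Fin (Module.finrank κ (κ ⊗[R] M)))) P
  have hk : k ≤ Module.finrank κ (κ ⊗[R] M) := by
    have h := Submodule.finrank_le P
    rwa [Module.finrank_eq_card_basis b, Fintype.card_fin, Module.finrank_pi, Fintype.card_fin] at h
  let g : (Fin k → R) →ₗ[R] N := (f.restrict (p := P) (q := N) fun x hx => hx) ∘ₗ b.equivFun.symm.toLinearMap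
  refine (finrank_le_of_surjective g fun y => ?_).trans hk
  obtain ⟨x, hx⟩ := hf y
  refine ⟨b.equivFun ⟨x, by show f x ∈ N; rw [hx]; exact y.2⟩, Subtype.ext ?_⟩
  simp [g, hx]

theorem finrank_le_of_injective [IsDomain R] [IsPrincipalIdealRing R] {V : Type w} [AddCommGroup V] [Module R V]
    {M : Type v} [AddCommGroup M] [Module R M] [Module.Finite R M] (e : V →ₗ[R] M) (he : Function.Injective e) :
    Module.finrank κ (κ ⊗[R] V) ≤ Module.finrank κ (κ ⊗[R] M) := by
  have h := finrank_submodule_le (LinearMap.range e)
  rwa [← ((LinearEquiv.ofInjective e he).baseChange R κ _ _).finrank_eq] at h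

end Groth.Agent.MuDVR
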